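import Groth.Agent.ProjNatLib.Bound
import Groth.Agent.Dual3Lib.TorConv
import Groth.Agent.PerfBaseLib.RpushTor
import Groth.Agent.RelFlatLib.RelOpen
import Groth.Agent.DCohRestrLib.Scheme

/-!
# Relative tor amplitude of derived direct images
-/

set_option autoImplicit false
set_option linter.all false
set_option backward.isDefEq.respectTransparency false
set_option backward.isDefEq.respectTransparency.types false
set_option maxHeartbeats 1000000

universe u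

open CategoryTheory CategoryTheory.Limits AlgebraicGeometry HomologicalComplex
open Groth.Agent
open Groth.Agent.PerfLib (resD res resDQIso)
open RelFlatLib (AmpD ampD_rep ampD_of_iso ampD_mono ampD_congr ampD_res_iff ampD_target_iff)

attribute [local instance] HasDerivedCategory.standard

noncomputable section

namespace ProjNatLib

variable {X Y S : Scheme.{u}}

/-- Amplitude of a direct image, small base. -/
theorem exists_amp_rpush_small (g : X ⟶ Y) [QuasiCompact g] [QuasiSeparated g] [DCoh.HasRpush g]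
    [CompactSpace Y] (π : Y ⟶ S) [QuasiSeparatedSpace S] {a b : ℤ} (K : DCoh.D X) (hK : DCoh.IsQCohD K)
    (h : ∀ x, AmpD (g ≫ π) a b K x) : ∃ c : ℤ, ∀ y, AmpD π a c ((DCoh.Rpush g).obj K) y := by
  obtain ⟨N, hN⟩ := QRlimLib.exists_uniform_bound g
  let F := DerivedCategory.Q.objPreimage K
  let eF : DCoh.toD X F ≅ K := DerivedCategory.Q.objObjPreimageIso K
  have hFq : DCoh.IsQCohD (DCoh.toD X F) := KFlatLib.isQCohD_iso eF.symm hK
  have htb := PerfBaseLib.tensorBounded_of_tor (g ≫ π) F fun x => (ampD_rep _ eF x).1 (h x)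
  obtain ⟨T, hT, ⟨eT⟩⟩ := KFlatLib.exists_good_rep ((DCoh.Rpush g).obj K)
  refine ⟨b + N - 1, fun y => (ampD_rep π eT y).2
    (Groth.Agent.Dual3Lib.hasTorAmplitude_of_tensorBounded π T (fun G hG P hP q hq i hi => ?_) y)⟩
  haveI := hq
  haveI := KFlatLib.hasLpull π
  haveI := KFlatLib.hasLpull g
  let P' := (KFlatLib.pullCx π).obj P
  have hP' : DCoh.IsKFlat P' := KFlatLib.isKFlat_pull π hP
  have hPq : DCoh.IsQCohD (DerivedCategory.Q.obj P) :=
    KFlatLib.isQCohD_iso (asIso (DerivedCategory.Q.map q) ≪≫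
      ((DerivedCategory.singleFunctorIsoCompQ S.Modules 0).app G).symm).symm (PerfBaseLib.isQCohD_inD G hG)
  have hPq' : DCoh.IsQCohD (DerivedCategory.Q.obj P') :=
    KFlatLib.isQCohD_iso (KFlatLib.lpullObjIso π P hP) (KFlatLib.isQCohD_lpull π _ hPq)
  haveI := KFlatLib.hasLTensorCx P'
  haveI := KFlatLib.hasLTensorCx ((KFlatLib.pullCx g).obj P')
  obtain ⟨e⟩ := ProjFormLib.nonempty_projection_qcoh g P' hP' hPq' (DCoh.toD X F) hFq
  haveI := TensorAssocLib.isIso_cnt ((KFlatLib.pullCx g).obj P') (KFlatLib.isKFlat_pull g hP') F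
  haveI := TensorAssocLib.isIso_cnt P' hP' T
  let Z := ((DCoh.tensorCx (X := X)).obj F).obj ((KFlatLib.pullCx g).obj P')
  let eZ : (DCoh.LTensorCx ((KFlatLib.pullCx g).obj P')).obj (DCoh.toD X F) ≅ DCoh.toD X Z :=
    asIso ((TensorAssocLib.cnt ((KFlatLib.pullCx g).obj P')).app F)
  have hZq : DCoh.IsQCohD (DCoh.toD X Z) := KFlatLib.isQCohD_iso eZ
    (KFlatLib.isQCohD_lTensorCx _ (KFlatLib.isQCohD_iso (KFlatLib.lpullObjIso g P' hP')
      (KFlatLib.isQCohD_lpull g _ hPq')) _ hFq)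
  have hz : ∀ j, (j < a ∨ b < j) → IsZero (DCoh.HD (DCoh.toD X Z) j) := fun j hj =>
    (KFlatLib.isZero_HD_iff (Iso.refl (DCoh.toD X Z)) j).2 ((htb G hG P hP q hq j hj).of_iso
      ((homologyFunctor _ _ j).mapIso (((DCoh.tensorCx (X := X)).obj F).mapIso
        ((NatIso.mapHomologicalComplex (Scheme.Modules.pullbackComp g π) (ComplexShape.up ℤ)).app P))))
  haveI : (DCoh.toD X Z).IsGE a := (DerivedCategory.isGE_iff _ a).2 fun j hj => hz j (Or.inl hj)
  haveI : (DCoh.toD X Z).IsLE b := (DerivedCategory.isLE_iff _ b).2 fun j hj => hz j (Or.inr hj)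
  refine (KFlatLib.isZero_HD_iff ((asIso ((TensorAssocLib.cnt P').app T)).symm ≪≫
    (DCoh.LTensorCx P').mapIso (eT ≪≫ (DCoh.Rpush g).mapIso eF.symm) ≪≫ e ≪≫
      (DCoh.Rpush g).mapIso eZ) i).1 ?_
  rcases hi with hi | hi
  · haveI := QRlimLib.rpush_isGE g (DCoh.toD X Z) a
    exact DerivedCategory.isZero_of_isGE _ a i hi
  · exact hN _ hZq b inferInstance i (by omega)

/-- Uniform amplitude upstairs gives amplitude near every point downstairs. -/
theorem exists_amp_rpush_nhd (f : X ⟶ Y) [QuasiCompact f] [QuasiSeparated f] [DCoh.HasRpush f] (q : Y ⟶ S)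
    (K : DCoh.D X) (hK : DCoh.IsQCohD K) {U : S.Opens} (hU : IsAffineOpen U) {W : Y.Opens} (hW : IsAffineOpen W)
    (hWU : W ≤ q ⁻¹ᵁ U) {a b : ℤ} (h : ∀ x ∈ f ⁻¹ᵁ W, AmpD (f ≫ q) a b K x) :
    ∃ c : ℤ, ∀ y ∈ W, AmpD q a c ((DCoh.Rpush f).obj K) y := by
  haveI : IsAffine (U : Scheme.{u}) := hU
  haveI : IsAffine (W : Scheme.{u}) := hW
  let g := f ∣_ W
  haveI : QuasiCompact g := MorphismProperty.of_isPullback (isPullback_morphismRestrict f W).flip inferInstance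
  haveI : QuasiSeparated g := MorphismProperty.of_isPullback (isPullback_morphismRestrict f W).flip inferInstance
  haveI := Groth.Agent.DCohRestrLib.hasRpush g
  let π : (W : Scheme.{u}) ⟶ U := q.resLE U W hWU
  have hπ : π ≫ U.ι = W.ι ≫ q := Scheme.Hom.resLE_comp_ι q hWU
  have hgπ : (g ≫ π) ≫ U.ι = (f ⁻¹ᵁ W).ι ≫ f ≫ q := by
    rw [Category.assoc, hπ, morphismRestrict_ι_assoc]
  obtain ⟨c, hc⟩ := exists_amp_rpush_small g π ((resD (f ⁻¹ᵁ W).ι).obj K)
    (Groth.Agent.PerfDualLib.isQCohD_restrictD hK (f ⁻¹ᵁ W)) (a := a) (b := b) fun x =>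
      (ampD_target_iff (g ≫ π) U.ι x a b _).1 ((ampD_congr hgπ).2
        ((ampD_res_iff (f ⁻¹ᵁ W).ι (f ≫ q) x a b K).2 (h _ x.2)))
  obtain ⟨e⟩ := Groth.Agent.DCohRestrLib.nonempty_restrictD_Rpush f W
  refine ⟨c, fun y hy => (ampD_res_iff W.ι q ⟨y, hy⟩ a c _).1 ((ampD_congr hπ).1
    ((ampD_target_iff π U.ι ⟨y, hy⟩ a c _).2 (ampD_of_iso π (e.app K).symm (hc ⟨y, hy⟩))))⟩

/-- Locally finite amplitude is preserved by derived direct images. -/
theorem exists_amp_rpush_loc (f : X ⟶ Y) [QuasiCompact f] [QuasiSeparated f] [DCoh.HasRpush f] (q : Y ⟶ S)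
    (K : DCoh.D X) (hK : DCoh.IsQCohD K)
    (h : ∀ x, ∃ (V : X.Opens) (a b : ℤ), x ∈ V ∧ ∀ x' ∈ V, AmpD (f ≫ q) a b K x') (y : Y) :
    ∃ (W : Y.Opens) (a c : ℤ), y ∈ W ∧ ∀ y' ∈ W, AmpD q a c ((DCoh.Rpush f).obj K) y' := by
  obtain ⟨U, hU, hyU, -⟩ := AlgebraicGeometry.exists_isAffineOpen_mem_and_subset
    (X := S) (x := q y) (U := ⊤) trivial
  obtain ⟨W, hW, hyW, hWU⟩ := AlgebraicGeometry.exists_isAffineOpen_mem_and_subset
    (X := Y) (x := y) (U := q ⁻¹ᵁ U) hyU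
  have hc : IsCompact ((f ⁻¹ᵁ W : X.Opens) : Set X) := f.isCompact_preimage hW.isCompact
  choose V a b hxV hV using h
  obtain ⟨t, ht⟩ := hc.elim_finite_subcover (fun x => (V x : Set X)) (fun x => (V x).2)
    fun x _ => Set.mem_iUnion.2 ⟨x, hxV x⟩
  obtain ⟨a₀, ha₀⟩ := (t.image a).bddBelow
  obtain ⟨b₀, hb₀⟩ := (t.image b).bddAbove
  obtain ⟨c, hc⟩ := exists_amp_rpush_nhd f q K hK hU hW hWU (a := a₀) (b := b₀) fun x hx => by
    obtain ⟨z, hzt, hz⟩ := Set.mem_iUnion₂.1 (ht hx)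
    exact ampD_mono _ (ha₀ (Finset.mem_image_of_mem a hzt)) (hb₀ (Finset.mem_image_of_mem b hzt)) (hV z x hz)
  exact ⟨W, a₀, c, hyW, hc⟩

/-- The upper bound comes from the cohomological bound. -/
theorem amp_rpush (f : X ⟶ Y) [QuasiCompact f] [QuasiSeparated f] [DCoh.HasRpush f] (q : Y ⟶ S) (N : ℕ)
    (hN : ∀ M : X.Modules, Coh.IsQCoh M → ∀ i : ℤ, (N : ℤ) < i → IsZero (DCoh.HD ((DCoh.Rpush f).obj (DCoh.inD X M)) i))
    (F : CochainComplex X.Modules ℤ) (hK : DCoh.IsQCohD (DCoh.toD X F)) {a b : ℤ}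
    (hF : DerSch.HasTorAmplitude (f ≫ q) a b F) (y : Y) :
    AmpD q a (b + N) ((DCoh.Rpush f).obj (DCoh.toD X F)) y := by
  have hA : ∀ x, AmpD (f ≫ q) a b (DCoh.toD X F) x := fun x => (ampD_rep _ (Iso.refl _) x).2 (hF x)
  obtain ⟨U, hU, hyU, -⟩ := AlgebraicGeometry.exists_isAffineOpen_mem_and_subset
    (X := S) (x := q y) (U := ⊤) trivial
  obtain ⟨W, hW, hyW, hWU⟩ := AlgebraicGeometry.exists_isAffineOpen_mem_and_subset
    (X := Y) (x := y) (U := q ⁻¹ᵁ U) hyU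
  obtain ⟨c, hc⟩ := exists_amp_rpush_nhd f q _ hK hU hW hWU fun x _ => hA x
  have hz : ∀ i, (i < a ∨ b < i) → IsZero (DCoh.HD (DCoh.toD X F) i) := fun i hi =>
    (KFlatLib.isZero_HD_iff (Iso.refl (DCoh.toD X F)) i).2 (RelFlatLib.isZero_homology_of_ampAt (f ≫ q) hi hF)
  haveI : (DCoh.toD X F).IsLE b := (DerivedCategory.isLE_iff _ b).2 fun i hi => hz i (Or.inr hi)
  haveI : (DCoh.toD X F).IsGE (b + 1 - ((b + 1 - a).toNat : ℤ)) :=
    (DerivedCategory.isGE_iff _ _).2 fun i hi => hz i (Or.inl (by omega))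
  haveI := isLE_rpush_of_bound f N hN b (b + 1 - a).toNat (DCoh.toD X F) hK inferInstance inferInstance
  refine RelFlatLib.amp_upper (hc y hyW) fun i hi => ?_
  exact ((DerSch.stalkOver q y).map_isZero (DerivedCategory.isZero_of_isLE _ (b + (N : ℤ)) i hi)).of_iso
    ((Groth.Agent.DerLib.ExactHomology.homologyIso (DerSch.stalkOver q y) i).app _)

end ProjNatLib
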