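import Groth.Agent.ProjNatLib.Coh
import Groth.Agent.RelPCSchLib.Immersion
import Groth.Agent.Dual3Lib.RelPC
import Groth.Agent.RTrivLib.P1
import Groth.Agent.ChowLib.Embed
import Groth.Agent.KiehlLib.Base
import Groth.Agent.DepthLib.Codepth
import Groth.Prelude.Def_CohB1

/-!
# Direct images from closed subschemes of projective space
-/

set_option autoImplicit false
set_option linter.all false
set_option backward.isDefEq.respectTransparency false
set_option backward.isDefEq.respectTransparency.types false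
set_option maxHeartbeats 1000000

universe u

open CategoryTheory CategoryTheory.Limits AlgebraicGeometry
open Groth.Agent
open RelPCSchLib

attribute [local instance] HasDerivedCategory.standard

noncomputable section

namespace ProjNatLib

variable {X Y : Scheme.{u}}

theorem isPC_rpush_proj (r : ℕ) (i : X ⟶ CohB1.ProjSpaceOver r Y) [IsClosedImmersion i]
    [DCoh.HasRpush (i ≫ CohB1.ProjSpaceOver.toBase r Y)] (E : DCoh.D X)
    (hE : DerSch.IsPseudoCoherentRelAll (i ≫ CohB1.ProjSpaceOver.toBase r Y) E) (m : ℤ) :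
    DCoh.IsPseudoCoherentD m ((DCoh.Rpush (i ≫ CohB1.ProjSpaceOver.toBase r Y)).obj E) := by
  let g := CohB1.ProjSpaceOver.toBase r Y
  haveI : Smooth g := RTrivLib.smooth_toBase r Y
  haveI : IsProper g := ChowLib.isProper_toBase r Y
  haveI := Groth.Agent.DCohRestrLib.hasRpush g
  haveI := Groth.Agent.DCohRestrLib.hasRpush i
  let F := DerivedCategory.Q.objPreimage E
  let eF : DCoh.toD X F ≅ E := DerivedCategory.Q.objObjPreimageIso E
  obtain ⟨ep⟩ := Groth.Agent.ImmPCLib.pushD_toD i F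
  obtain ⟨er⟩ := Groth.Agent.Dual3Lib.nonempty_rpush_pushD i (DCoh.toD X F)
  obtain ⟨ec⟩ := Groth.Agent.Dual3Lib.nonempty_rpush_comp i g (DCoh.toD X F)
  have hP : ∀ k, DCoh.IsPseudoCoherentD k ((DCoh.Rpush i).obj (DCoh.toD X F)) := fun k =>
    Groth.Agent.PerfLib.isPC_of_iso (ep.symm ≪≫ er.symm)
      ((rel_immersion_comp_iff i g k F).1.1 (rel_of_iso (i ≫ g) eF.symm (hE k)))
  haveI := KFlatLib.hasLTensorMod (Coh.structureModule (CohB1.ProjSpaceOver r Y))
  haveI : Coh.IsQCoh (Coh.structureModule (CohB1.ProjSpaceOver r Y)) := QCohLib.isQCoh_unit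
  obtain ⟨e⟩ := KiehlLib.nonempty_lTensorMod_unit ((DCoh.Rpush i).obj (DCoh.toD X F))
  exact Groth.Agent.PerfLib.isPC_of_iso ((DCoh.Rpush g).mapIso e ≪≫ ec ≪≫ (DCoh.Rpush _).mapIso eF)
    (KiehlLib.isPC_rpush_lTensor g _ DepthLib.isFP_structureModule (PerfBaseLib.isFlatOver_unit g) _ hP m)

theorem isQCohD_of_rel (f : X ⟶ Y) {E : DCoh.D X} (hE : DerSch.IsPseudoCoherentRelAll f E) :
    DCoh.IsQCohD E := fun i => isQCoh_HD_of_rel f (hE (i - 1)) i (by omega)

end ProjNatLib
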