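import Groth.Agent.EGA2SymLib.PosSurj
import Groth.Agent.ProjTopLib.Maps
import Groth.Agent.MiscFlat6.ProjMapIso
import Mathlib.Algebra.Polynomial.AlgebraMap
import Mathlib.Algebra.DirectSum.Internal

/-!
# `Proj S → Proj (S♮ ⊗ S₀)`
-/

set_option autoImplicit false
universe u

open CategoryTheory AlgebraicGeometry HomogeneousLocalization
open scoped HomogeneousIdeal

noncomputable section

namespace ProjNatLib

variable {R A B C : Type u} [CommRing R] [CommRing A] [Algebra R A]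
  (𝒜 : ℕ → Submodule R A) [GradedAlgebra 𝒜] [CommRing B] [Algebra R B] (ℬ : ℕ → Submodule R B) [GradedAlgebra ℬ]
  (φ : B →ₐ[R] Polynomial A) [CommRing C] [Algebra R C] (𝒞 : ℕ → Submodule R C) [GradedAlgebra 𝒞]

/-- The tail `S_[n]`. -/
def tail (n : ℕ) : Submodule R A := ⨆ (m : ℕ) (_ : n ≤ m), 𝒜 m

theorem mem_tail {n m : ℕ} (h : n ≤ m) {a : A} (ha : a ∈ 𝒜 m) : a ∈ tail 𝒜 n :=
  Submodule.mem_iSup_of_mem m (Submodule.mem_iSup_of_mem h ha)

theorem proj_eq_zero_of_tail {n i : ℕ} (hi : i < n) {a : A} (ha : a ∈ tail 𝒜 n) :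
    GradedRing.proj 𝒜 i a = 0 := by
  refine Submodule.iSup_induction _ (motive := fun x => GradedRing.proj 𝒜 i x = 0) ha ?_ (map_zero _)
    fun x y hx hy => by rw [map_add, hx, hy, add_zero]
  intro m x hx
  refine Submodule.iSup_induction _ (motive := fun x => GradedRing.proj 𝒜 i x = 0) hx ?_ (map_zero _)
    fun x y hx hy => by rw [map_add, hx, hy, add_zero]
  intro h y hy
  rw [GradedRing.proj_apply, DirectSum.decompose_of_mem_ne 𝒜 hy (show m ≠ i by omega)]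

variable (hφ : Function.Injective φ)
  (hdeg : ∀ n : ℕ, Submodule.map φ.toLinearMap (ℬ n) =
    Submodule.map ((Polynomial.monomial n : A →ₗ[A] Polynomial A).restrictScalars R) (tail 𝒜 n))

omit [GradedAlgebra 𝒜] [GradedAlgebra ℬ] in
include hdeg in
theorem exists_lift {n : ℕ} {a : A} (ha : a ∈ tail 𝒜 n) : ∃ b ∈ ℬ n, φ b = Polynomial.monomial n a := by
  have h : Polynomial.monomial n a ∈ Submodule.map φ.toLinearMap (ℬ n) := by
    rw [hdeg n]; exact ⟨a, ha, rfl⟩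
  obtain ⟨b, hb, hb'⟩ := h
  exact ⟨b, hb, hb'⟩

omit [GradedAlgebra 𝒜] [GradedAlgebra ℬ] in
include hdeg in
theorem exists_val {n : ℕ} {b : B} (hb : b ∈ ℬ n) : ∃ a ∈ tail 𝒜 n, φ b = Polynomial.monomial n a := by
  have h : φ.toLinearMap b ∈ Submodule.map φ.toLinearMap (ℬ n) := ⟨b, hb, rfl⟩
  rw [hdeg n] at h
  obtain ⟨a, ha, ha'⟩ := h
  exact ⟨a, ha, ha'.symm⟩

variable (π : ℬ →+*ᵍ 𝒞) (hπ : Function.Surjective π)
  (hker : RingHom.ker π.toRingHom =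
    Ideal.span (⇑φ ⁻¹' (⇑(Polynomial.C : A →+* Polynomial A) '' ((HomogeneousIdeal.irrelevant 𝒜).toIdeal : Set A))))
  (ρ : 𝒞 →+*ᵍ 𝒜) (hρ : ∀ (n : ℕ) (b : B), b ∈ ℬ n → ρ (π b) = GradedRing.proj 𝒜 n ((φ b).coeff n))

include hker in
theorem pi_eq_zero {c : B} {a : A} {m : ℕ} (hm : 0 < m) (ha : a ∈ 𝒜 m) (hc : φ c = Polynomial.C a) : π c = 0 := by
  have : c ∈ RingHom.ker π.toRingHom := by
    rw [hker]
    refine Ideal.subset_span ⟨a, ?_, hc.symm⟩
    rw [SetLike.mem_coe, HomogeneousIdeal.toIdeal, ← HomogeneousIdeal.toIdeal]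
    exact HomogeneousIdeal.mem_irrelevant_of_mem 𝒜 hm ha
  exact this

include hdeg hπ hρ in
theorem posSurj : EGA2SymLib.PosSurj ρ := by
  intro n _ a ha
  obtain ⟨b, hb, hb'⟩ := exists_lift 𝒜 ℬ φ hdeg (mem_tail 𝒜 le_rfl ha)
  refine ⟨π b, π.map_mem hb, ?_⟩
  rw [hρ n b hb, hb', Polynomial.coeff_monomial, if_pos rfl, GradedRing.proj_apply,
    DirectSum.decompose_of_mem_same 𝒜 ha]

include hπ in
theorem exists_homog_preimage {n : ℕ} {c : C} (hc : c ∈ 𝒞 n) : ∃ b ∈ ℬ n, π b = c := by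
  obtain ⟨b, rfl⟩ := hπ c
  refine ⟨DirectSum.decompose ℬ b n, SetLike.coe_mem _, ?_⟩
  rw [GradedRingHom.map_directSumDecompose, DirectSum.decompose_of_mem_same 𝒞 hc]

include hφ hdeg hπ hρ in
/-- an element of the kernel in degree `n` is a sum of classes of elements of `S_m`, `m > n` -/
theorem kernel_induction {n : ℕ} {c : C} (hc : c ∈ 𝒞 n) (h0 : ρ c = 0) (P : C → Prop) (hP0 : P 0)
    (hadd : ∀ x y, P x → P y → P (x + y))
    (hP : ∀ m, n < m → ∀ a ∈ 𝒜 m, ∀ b ∈ ℬ n, φ b = Polynomial.monomial n a → P (π b)) : P c := by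
  classical
  obtain ⟨b, hb, rfl⟩ := exists_homog_preimage ℬ 𝒞 π hπ hc
  obtain ⟨a, ha, hab⟩ := exists_val 𝒜 ℬ φ hdeg hb
  rw [hρ n b hb, hab, Polynomial.coeff_monomial, if_pos rfl] at h0
  have hcomp : ∀ m ∈ (DirectSum.decompose 𝒜 a).support, n < m := by
    intro m hm
    rw [DFinsupp.mem_support_toFun] at hm
    rcases lt_trichotomy m n with h | h | h
    · exfalso; apply hm; ext
      exact proj_eq_zero_of_tail 𝒜 h ha
    · subst h; exfalso; apply hm; ext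
      exact h0
    · exact h
  have key : ∀ m, n < m → ∃ b' ∈ ℬ n, φ b' = Polynomial.monomial n (DirectSum.decompose 𝒜 a m : A) := fun m hm =>
    exists_lift 𝒜 ℬ φ hdeg (mem_tail 𝒜 hm.le (SetLike.coe_mem _))
  choose! b' hb'm hb' using key
  have hsum : b = ∑ m ∈ (DirectSum.decompose 𝒜 a).support, b' m := hφ (by
    rw [hab, map_sum, Finset.sum_congr rfl (fun m hm => hb' m (hcomp m hm)), ← map_sum,
      DirectSum.sum_support_decompose])
  rw [hsum, map_sum]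
  exact Finset.sum_induction _ P hadd hP0 fun m hm =>
    hP m (hcomp m hm) _ (SetLike.coe_mem _) _ (hb'm m (hcomp m hm)) (hb' m (hcomp m hm))

include hφ hdeg hπ hker hρ in
theorem isNilpotent_of_ker (c : C) (hc : ρ c = 0) : IsNilpotent c := by
  classical
  rw [← DirectSum.sum_support_decompose 𝒞 c]
  refine isNilpotent_sum fun n _ => ?_
  have h0 : ρ (DirectSum.decompose 𝒞 c n : C) = 0 := by
    rw [GradedRingHom.map_directSumDecompose, hc]; simp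
  refine kernel_induction 𝒜 ℬ φ 𝒞 hφ hdeg π hπ ρ hρ (SetLike.coe_mem _) h0 IsNilpotent IsNilpotent.zero
    (fun x y hx hy => (Commute.all x y).isNilpotent_add hx hy) fun m hm a ha b hb hab => ⟨n + 1, ?_⟩
  have han : a ^ n ∈ 𝒜 (n * m) := by simpa using SetLike.pow_mem_graded n ha
  obtain ⟨e, -, he⟩ := exists_lift 𝒜 ℬ φ hdeg (n := n * (n + 1)) (mem_tail 𝒜 (Nat.mul_le_mul_left n hm) han)
  obtain ⟨c0, -, hc0⟩ := exists_lift 𝒜 ℬ φ hdeg (n := 0) (mem_tail 𝒜 (Nat.zero_le m) ha)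
  rw [Polynomial.monomial_zero_left] at hc0
  have : b ^ (n + 1) = c0 * e := hφ (by
    rw [map_pow, map_mul, hab, hc0, he, Polynomial.monomial_pow, Polynomial.C_mul_monomial, ← pow_succ'])
  rw [← map_pow, this, map_mul, pi_eq_zero 𝒜 ℬ φ 𝒞 π hker (by omega) ha hc0, zero_mul]

include hφ hdeg hπ hker hρ in
theorem eq_zero_of_ker {n₀ : ℕ} (hgen : ∀ n : ℕ, n₀ ≤ n → 𝒜 (n + 1) = 𝒜 1 * 𝒜 n) {n : ℕ} (hn : n₀ ≤ n)
    {c : C} (hc : c ∈ 𝒞 n) (h0 : ρ c = 0) : c = 0 := by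
  refine kernel_induction 𝒜 ℬ φ 𝒞 hφ hdeg π hπ ρ hρ hc h0 (fun x => x = 0) rfl
    (fun x y hx hy => by simp [hx, hy]) fun m hm a ha b hb hab => ?_
  obtain ⟨m', rfl⟩ : ∃ m', m = m' + 1 := ⟨m - 1, by omega⟩
  rw [hgen m' (by omega)] at ha
  have : ∀ b : B, φ b = Polynomial.monomial n a → π b = 0 := by
    clear hab hb b
    induction ha using Submodule.mul_induction_on' with
    | mem_mul_mem x hx y hy =>
      intro b hb
      obtain ⟨c0, -, hc0⟩ := exists_lift 𝒜 ℬ φ hdeg (n := 0) (mem_tail 𝒜 (Nat.zero_le 1) hx)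
      obtain ⟨e, -, he⟩ := exists_lift 𝒜 ℬ φ hdeg (n := n) (mem_tail 𝒜 (show n ≤ m' by omega) hy)
      rw [Polynomial.monomial_zero_left] at hc0
      have : b = c0 * e := hφ (by rw [hb, map_mul φ, hc0, he, Polynomial.C_mul_monomial])
      rw [this, map_mul, pi_eq_zero 𝒜 ℬ φ 𝒞 π hker Nat.one_pos hx hc0, zero_mul]
    | add x hx y hy ihx ihy =>
      intro b hb
      have hsub : 𝒜 1 * 𝒜 m' ≤ tail 𝒜 n := by
        rw [← hgen m' (by omega)]
        exact fun z hz => mem_tail 𝒜 (by omega) hz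
      obtain ⟨bx, -, hbx⟩ := exists_lift 𝒜 ℬ φ hdeg (hsub hx)
      obtain ⟨by', -, hby⟩ := exists_lift 𝒜 ℬ φ hdeg (hsub hy)
      have : b = bx + by' := hφ (by rw [hb, map_add φ, hbx, hby, map_add])
      rw [this, map_add, ihx bx hbx, ihy by' hby, add_zero]
  exact this b hab

variable (hirr : HomogeneousIdeal.irrelevant 𝒜 ≤ (HomogeneousIdeal.irrelevant 𝒞).map ρ)

include hφ hdeg hπ hker hρ in
theorem bijective_map : Function.Bijective (Proj.map ρ hirr).base := by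
  haveI := EGA2SymLib.isClosedImmersion_map ρ (posSurj 𝒜 ℬ φ 𝒞 hdeg π hπ ρ hρ) hirr
  refine ⟨(Proj.map ρ hirr).isClosedEmbedding.injective, ?_⟩
  rw [← Set.range_eq_univ, ← (Proj.map ρ hirr).isClosedEmbedding.isClosed_range.closure_eq]
  exact (ProjTopLib.denseRange_map 𝒞 𝒜 ρ hirr
    (isNilpotent_of_ker 𝒜 ℬ φ 𝒞 hφ hdeg π hπ hker ρ hρ)).closure_range

include hφ hdeg hπ hker hρ in
theorem isIso_map {n₀ : ℕ} (hgen : ∀ n : ℕ, n₀ ≤ n → 𝒜 (n + 1) = 𝒜 1 * 𝒜 n) : IsIso (Proj.map ρ hirr) := by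
  change MorphismProperty.isomorphisms Scheme (Proj.map ρ hirr)
  refine IsZariskiLocalAtTarget.of_iSup_eq_top
    (fun t : Σ d : {d : ℕ // 0 < d}, 𝒞 d.1 => Proj.basicOpen 𝒞 (t.2 : C))
    (GrModLib6.iSup_pos_basicOpen 𝒞) fun ⟨⟨d, hd⟩, t, ht⟩ => ?_
  change IsIso (Proj.map ρ hirr ∣_ Proj.basicOpen 𝒞 t)
  refine MiscFlat6.isIso_map_restrict 𝒞 𝒜 ρ hirr hd ht
    ⟨(injective_iff_map_eq_zero _).mpr fun z hz => ?_,
      EGA2SymLib.awayMap_surjective ρ (posSurj 𝒜 ℬ φ 𝒞 hdeg π hπ ρ hρ) ht hd⟩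
  obtain ⟨k, a, ha, rfl⟩ := Away.mk_surjective 𝒞 ht z
  have h' := congrArg HomogeneousLocalization.val ((Away.map_mk ρ t ht k a ha).symm.trans hz)
  rw [Away.val_mk, HomogeneousLocalization.val_zero, ← Localization.mk_zero (1 : Submonoid.powers (ρ t)),
    Localization.mk_eq_mk_iff, Localization.r_iff_exists] at h'
  obtain ⟨⟨_, N, rfl⟩, hc⟩ := h'
  have h2 : ρ t ^ N * ρ a = 0 := by simpa using hc
  have h3 : ρ (t ^ (N + n₀) * a) = 0 := by
    rw [map_mul, map_pow, add_comm N, pow_add, mul_assoc, h2, mul_zero]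
  have hmem : t ^ (N + n₀) * a ∈ 𝒞 ((N + n₀) • d + k • d) :=
    SetLike.mul_mem_graded (SetLike.pow_mem_graded (N + n₀) ht) ha
  have h0 := eq_zero_of_ker 𝒜 ℬ φ 𝒞 hφ hdeg π hπ hker ρ hρ hgen (by
    have : N + n₀ ≤ (N + n₀) • d := by rw [smul_eq_mul]; exact Nat.le_mul_of_pos_right _ hd
    omega) hmem h3
  apply HomogeneousLocalization.val_injective
  rw [Away.val_mk, HomogeneousLocalization.val_zero, ← Localization.mk_zero (1 : Submonoid.powers t),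
    Localization.mk_eq_mk_iff, Localization.r_iff_exists]
  exact ⟨⟨t ^ (N + n₀), N + n₀, rfl⟩, by simpa using h0⟩

end ProjNatLib

end
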