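import Groth.Agent.KiehlLib.Lift
import Groth.Agent.QRlimLib.Unbounded

/-!
# Bounds for derived direct images from a cohomological bound
-/

set_option autoImplicit false
set_option linter.all false
set_option backward.isDefEq.respectTransparency false
set_option backward.isDefEq.respectTransparency.types false
set_option maxHeartbeats 1000000

universe u

open CategoryTheory CategoryTheory.Limits AlgebraicGeometry
open Groth.Agent
open CategoryTheory.Pretriangulated
open DerivedCategory.TStructure (t)

attribute [local instance] HasDerivedCategory.standard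

noncomputable section

namespace ProjNatLib

variable {X Y : Scheme.{u}} (f : X ⟶ Y) [DCoh.HasRpush f] (N : ℕ)

theorem isLE_rpush_of_bound
    (hN : ∀ M : X.Modules, Coh.IsQCoh M → ∀ i : ℤ, (N : ℤ) < i → IsZero (DCoh.HD ((DCoh.Rpush f).obj (DCoh.inD X M)) i))
    (c : ℤ) (n : ℕ) :
    ∀ E : DCoh.D X, DCoh.IsQCohD E → E.IsGE (c + 1 - (n : ℤ)) → E.IsLE c →
      ((DCoh.Rpush f).obj E).IsLE (c + N) := by
  obtain ⟨_, _⟩ := QRlimLib.exists_isTriangulated_rpush f
  induction n with
  | zero =>
    intro E _ hge hle
    haveI := hle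
    haveI : E.IsGE (c + 1) := by simpa using hge
    have hz : IsZero E := t.isZero E c (c + 1) (by omega)
    exact t.isLE_of_isZero ((DCoh.Rpush f).map_isZero hz) _
  | succ n ih =>
    intro E hE hge hle
    haveI := hge
    haveI := hle
    let d : ℤ := c - (n : ℤ)
    let A := (t.truncLE d).obj E
    let B := (t.truncGT d).obj E
    haveI : A.IsLE d := inferInstance
    haveI : A.IsGE d := (DerivedCategory.isGE_iff _ _).2 fun q hq => by
      haveI := Groth.Agent.DerLib.Devissage.isIso_homology_truncLEι E d q (by omega)
      exact (DerivedCategory.isZero_of_isGE E (c + 1 - ((n + 1 : ℕ) : ℤ)) q (by omega)).of_iso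
        (asIso ((DerivedCategory.homologyFunctor X.Modules q).map ((t.truncLEι d).app E)))
    have hBge : B.IsGE (d + 1) := inferInstance
    haveI : B.IsGE (c + 1 - (n : ℤ)) := by
      rw [show c + 1 - (n : ℤ) = d + 1 by omega]
      exact hBge
    haveI : B.IsLE c := (DerivedCategory.isLE_iff _ _).2 fun q hq => by
      haveI := Groth.Agent.DerLib.Devissage.isIso_homology_truncGTπ E d q (by omega)
      exact (DerivedCategory.isZero_of_isLE E c q hq).of_iso
        (asIso ((DerivedCategory.homologyFunctor X.Modules q).map ((t.truncGTπ d).app E))).symm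
    have hAq : DCoh.IsQCohD A := QRlimLib.isQCohD_truncLE hE d
    have hBq : DCoh.IsQCohD B := KFlatLib.isQCohD₂
      (rot_of_distTriang _ (t.triangleLEGT_distinguished d E)) hE (KFlatLib.isQCohD_shift hAq 1)
    haveI := ih B hBq inferInstance inferInstance
    obtain ⟨eA⟩ := Groth.Agent.DerLib.Devissage.nonempty_iso_single A d
    haveI : ((DCoh.Rpush f).obj A).IsLE (c + N) := by
      let M := DCoh.HD A d
      have e : A ≅ (DCoh.inD X M)⟦-d⟧ := eA ≪≫
        (((DerivedCategory.singleFunctors X.Modules).shiftIso (-d) d 0 (by omega)).app M).symm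
      refine (DerivedCategory.isLE_iff _ _).2 fun i hi => ?_
      refine IsZero.of_iso ?_ ((DerivedCategory.homologyFunctor Y.Modules i).mapIso
        ((DCoh.Rpush f).mapIso e ≪≫ ((DCoh.Rpush f).commShiftIso (-d)).app _))
      exact (hN M (hAq d) (i - d) (by omega)).of_iso
        (((DerivedCategory.homologyFunctor Y.Modules 0).shiftIso (-d) i (i - d) (by omega)).app _)
    exact t.isLE₂ _ ((DCoh.Rpush f).map_distinguished _ (t.triangleLEGT_distinguished d E)) (c + N)
      ‹_› ‹_›

end ProjNatLib
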