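import Groth.Agent.ProjNatLib.Main
import Groth.Agent.RelPCSchLib.Main
import Groth.Agent.DerCompLib.AffineGlobal
import Groth.Agent.KiehlLib.Tensor
import Groth.Agent.PerfLib.Coherent
import Groth.Prelude.Def_PerfD

/-!
# Relatively pseudo-coherent objects over a Noetherian base
-/

set_option autoImplicit false
set_option linter.all false
set_option backward.isDefEq.respectTransparency false
set_option backward.isDefEq.respectTransparency.types false
set_option maxHeartbeats 1000000

universe u

open CategoryTheory CategoryTheory.Limits AlgebraicGeometry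
open Groth.Agent
open Groth.Agent.PerfLib (resD res)
open RelPCSchLib

attribute [local instance] HasDerivedCategory.standard

noncomputable section

namespace ProjNatLib

variable {X Y : Scheme.{u}}

theorem isCohD_of_rel [IsLocallyNoetherian Y] (f : X ⟶ Y) {E : DCoh.D X}
    (hE : DerSch.IsPseudoCoherentRelAll f E) : DCoh.IsCohD E := by
  haveI := (hE 0).1
  intro i
  have h : ∀ x : X, ∃ U : X.Opens, x ∈ U ∧ Coh.IsCoh ((DCoh.HD E i).restrict U.ι) := fun x => by
    obtain ⟨V, hV, hxV, -⟩ := AlgebraicGeometry.exists_isAffineOpen_mem_and_subset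
      (X := Y) (x := f x) (U := ⊤) trivial
    obtain ⟨U, hU, hxU, hUV⟩ := AlgebraicGeometry.exists_isAffineOpen_mem_and_subset
      (X := X) (x := x) (U := f ⁻¹ᵁ V) hxV
    obtain ⟨n, φ, hφ⟩ := exists_isChart f hU hV hUV
    haveI := isClosedImmersion_imm hU hφ.1
    haveI := IsLocallyNoetherian.component_noetherian (X := Y) ⟨V, hV⟩
    haveI : IsNoetherianRing (MvPolynomial (Fin n) Γ(Y, V)) := inferInstance
    have h0 := Groth.Agent.DerCompLib.AffineGlobal.isCohD_of_isPC (fun m => isPC_of_rel f (hE m) hU hV hUV φ hφ) i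
    have h1 : Coh.IsCoh (DCoh.HD ((resD U.ι).obj E) i) := by
      let M := DCoh.HD ((resD U.ι).obj E) i
      have h2 : Coh.IsCoh ((Scheme.Modules.pushforward (imm U φ)).obj M) :=
        QCohLib.isCoh_of_iso
          ((Groth.Agent.DerLib.ExactHomology.homologyIso (Scheme.Modules.pushforward (imm U φ)) i).app
            ((resD U.ι).obj E)) h0
      haveI := h2.1
      exact ⟨Groth.Agent.ImmPCLib.isQCoh_of_push (imm U φ) M h2.1,
        (Groth.Agent.ImmPCLib.isFT_push_iff (imm U φ) M).1 h2.2⟩
    exact ⟨U, hxU, QCohLib.isCoh_of_iso (Groth.Agent.PerfLib.resHDIso U.ι E i) h1⟩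
  choose U hxU hU using h
  exact Groth.Agent.PerfLib.isCoh_of_cover _ U
    (eq_top_iff.2 fun x _ => TopologicalSpace.Opens.mem_iSup.2 ⟨x, hxU x⟩) hU

/-- Proper direct images of relatively pseudo-coherent objects are pseudo-coherent. -/
theorem isPC_rpush_rel [IsNoetherian Y] (f : X ⟶ Y) [IsProper f] [DCoh.HasRpush f] {E : DCoh.D X}
    (hE : DerSch.IsPseudoCoherentRelAll f E) (b : ℤ) [E.IsLE b] (m : ℤ) :
    DCoh.IsPseudoCoherentD m ((DCoh.Rpush f).obj E) := by
  have hc := KiehlLib.isCohD_rpush_proper f E (isCohD_of_rel f hE)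
  obtain ⟨N, hN⟩ := QRlimLib.exists_uniform_bound f
  haveI : ((DCoh.Rpush f).obj E).IsLE (b + N) := (DerivedCategory.isLE_iff _ _).2 fun i hi =>
    hN E (fun j => (isCohD_of_rel f hE j).1) b inferInstance i (by omega)
  exact PerfNoethLib.isPC_of_coherent (fun i _ => hc i) (b := b + N)

theorem betti_iso [∀ x : X, DCoh.HasLpull (X.fromSpecResidueField x)] {E E' : DCoh.D X} (e : E ≅ E')
    (x : X) (i : ℤ) : PerfD.betti E x i = PerfD.betti E' x i := by
  let G := SheafOfModules.evaluation (Spec (X.residueField x)).ringCatSheaf (Opposite.op ⊤)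
  exact LinearEquiv.finrank_eq (G.mapIso ((DerivedCategory.homologyFunctor _ i).mapIso
    ((DCoh.Lpull (X.fromSpecResidueField x)).mapIso e))).toLinearEquiv

end ProjNatLib
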