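import Groth.Agent.ProjFormLib.QCohMain
import Groth.Agent.PerfBaseLib.RpushTor
import Groth.Prelude.Def_QCohCat

/-!
# The projection formula as a natural isomorphism in the module
-/

set_option autoImplicit false
set_option linter.all false
set_option backward.isDefEq.respectTransparency false
set_option backward.isDefEq.respectTransparency.types false
set_option maxHeartbeats 1000000

universe u

open CategoryTheory CategoryTheory.Limits AlgebraicGeometry HomologicalComplex
open Groth.Agent Groth.Agent.ProjFormLib Groth.Agent.DerLib Groth.Agent.PerfDualLib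

attribute [local instance] HasDerivedCategory.standard

noncomputable section

namespace ProjNatLib

variable {X Y : Scheme.{u}}

/-- The functorial K-flat resolution of a module. -/
abbrev resMod (Y : Scheme.{u}) : Y.Modules ⥤ Cx Y :=
  CochainComplex.singleFunctor Y.Modules 0 ⋙ KFlatLib.resP Y

theorem isKFlat_resMod (M : Y.Modules) : DCoh.IsKFlat ((resMod Y).obj M) :=
  (KFlatLib.good_resP _).1

theorem nonempty_resMod_Q :
    Nonempty (DerivedCategory.singleFunctor Y.Modules 0 ≅ resMod Y ⋙ DerivedCategory.Q) := by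
  haveI : ∀ K, IsIso ((Functor.whiskerRight (KFlatLib.resψ Y) DerivedCategory.Q).app K) := fun K => by
    haveI := KFlatLib.quasiIso_resψ K
    exact inferInstanceAs (IsIso (DerivedCategory.Q.map ((KFlatLib.resψ Y).app K)))
  haveI := NatIso.isIso_of_isIso_app (Functor.whiskerRight (KFlatLib.resψ Y) DerivedCategory.Q)
  exact ⟨DerivedCategory.singleFunctorIsoCompQ Y.Modules 0 ≪≫
    Functor.isoWhiskerLeft _ ((Functor.leftUnitor _).symm ≪≫
      (asIso (Functor.whiskerRight (KFlatLib.resψ Y) DerivedCategory.Q)).symm) ≪≫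
    (Functor.associator _ _ _).symm⟩

variable (f : X ⟶ Y)

/-- The unit of the derived direct image on complexes. -/
def pushQ [DCoh.HasRpush f] : pushC f ⋙ DerivedCategory.Q ⟶ DerivedCategory.Q ⋙ DCoh.Rpush f where
  app T := (DerivedCategory.quotientCompQhIso Y.Modules).inv.app ((pushC f).obj T) ≫
    (DCohRestrLib.pushUnit f).app ((HomotopyCategory.quotient X.Modules (ComplexShape.up ℤ)).obj T) ≫
    (DCoh.Rpush f).map ((DerivedCategory.quotientCompQhIso X.Modules).hom.app T)
  naturality T T' g := by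
    dsimp only [Functor.comp_map, Functor.comp_obj]
    rw [← Category.assoc, (DerivedCategory.quotientCompQhIso Y.Modules).inv.naturality ((pushC f).map g),
      Category.assoc]
    erw [(DCohRestrLib.pushUnit f).naturality_assoc
      ((HomotopyCategory.quotient X.Modules (ComplexShape.up ℤ)).map g)]
    simp only [Category.assoc]
    congr 2
    dsimp only [Functor.comp_map]
    rw [← Functor.map_comp, ← Functor.map_comp]
    exact congrArg _ ((DerivedCategory.quotientCompQhIso X.Modules).hom.naturality g)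

theorem isIso_pushQ [DCoh.HasRpush f] (R : Cx X) [R.IsKInjective] : IsIso ((pushQ f).app R) := by
  haveI := DCohRestrLib.isIso_pushUnit f R
  dsimp only [pushQ]
  infer_instance

/-- The projection formula, natural in the quasi-coherent module. -/
theorem nonempty_iso [QuasiCompact f] [QuasiSeparated f] [DCoh.HasRpush f] [DCoh.HasLpull f]
    (F : Cx X) [DCoh.HasLTensorCx F] (hF : DCoh.IsQCohD (DCoh.toD X F))
    (K : Cx Y) [DCoh.HasLTensorCx K] (eK : DCoh.toD Y K ≅ (DCoh.Rpush f).obj (DCoh.toD X F)) :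
    Nonempty ((QCohCat.isQCoh Y).ι ⋙ DerivedCategory.singleFunctor Y.Modules 0 ⋙ DCoh.Lpull f ⋙
        DCoh.LTensorCx F ⋙ DCoh.Rpush f ≅
      (QCohCat.isQCoh Y).ι ⋙ DerivedCategory.singleFunctor Y.Modules 0 ⋙ DCoh.LTensorCx K) := by
  obtain ⟨I, hI, ⟨eI⟩⟩ := KInjUse.exists_iso_Q_kInjective (DCoh.toD X F)
  have hIq : DCoh.IsQCohD (DerivedCategory.Q.obj I) := KFlatLib.isQCohD_iso eI hF
  let A := (KFlatLib.resP Y).obj ((pushC f).obj I)
  let ψ : A ⟶ (pushC f).obj I := (KFlatLib.resψ Y).app ((pushC f).obj I)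
  haveI hψ : QuasiIso ψ := KFlatLib.quasiIso_resψ _
  have hA : DCoh.IsKFlat A := (KFlatLib.good_resP _).1
  let F' := (KFlatLib.resP X).obj I
  let s : F' ⟶ I := (KFlatLib.resψ X).app I
  haveI hs : QuasiIso s := KFlatLib.quasiIso_resψ _
  have hF' : DCoh.IsKFlat F' := (KFlatLib.good_resP _).1
  haveI := KFlatLib.hasLTensorCx A
  haveI := KFlatLib.hasLTensorCx F'
  -- the object
  haveI := isIso_pushQ f I
  let eA : DerivedCategory.Q.obj A ≅ DCoh.toD Y K :=
    asIso (DerivedCategory.Q.map ψ) ≪≫ asIso ((pushQ f).app I) ≪≫ (DCoh.Rpush f).mapIso eI.symm ≪≫ eK.symm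
  obtain ⟨cA⟩ := nonempty_lTensor_congr_iso (M := A) (N := K) eA
  obtain ⟨cF⟩ := nonempty_lTensor_congr_iso (M := F') (N := F) (asIso (DerivedCategory.Q.map s) ≪≫ eI.symm)
  obtain ⟨eS⟩ := nonempty_resMod_Q (Y := Y)
  -- the target
  haveI : ∀ C, IsIso ((TensorAssocLib.cnt A).app C) := TensorAssocLib.isIso_cnt A hA
  haveI := NatIso.isIso_of_isIso_app (TensorAssocLib.cnt A)
  let eY : DerivedCategory.singleFunctor Y.Modules 0 ⋙ DCoh.LTensorCx K ≅
      resMod Y ⋙ Gen.tL (Tb Y) A ⋙ DerivedCategory.Q :=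
    Functor.isoWhiskerRight eS _ ≪≫ Functor.associator _ _ _ ≪≫
      Functor.isoWhiskerLeft _ (Functor.isoWhiskerLeft _ cA.symm ≪≫ asIso (TensorAssocLib.cnt A) ≪≫
        Functor.isoWhiskerRight (tLIso A).symm _)
  -- the source
  haveI : ∀ C, IsIso ((TensorAssocLib.cnt F').app C) := TensorAssocLib.isIso_cnt F' hF'
  haveI := NatIso.isIso_of_isIso_app (TensorAssocLib.cnt F')
  let α : Gen.tR (Tb X) F' ⟶ Gen.tR (Tb X) I := (DCoh.tensorCx (X := X)).flip.map s
  haveI : ∀ M, IsIso ((Functor.whiskerLeft (resMod Y ⋙ pullC f)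
      (Functor.whiskerRight α DerivedCategory.Q)).app M) := fun M => by
    have hT : DCoh.IsKFlat ((pullC f).obj ((resMod Y).obj M)) := KFlatLib.isKFlat_pull f (isKFlat_resMod M)
    haveI : QuasiIso (α.app ((pullC f).obj ((resMod Y).obj M))) :=
      KFlatLib.quasiIso_tensor_left hT s
    exact inferInstanceAs (IsIso (DerivedCategory.Q.map (α.app ((pullC f).obj ((resMod Y).obj M)))))
  haveI := NatIso.isIso_of_isIso_app (Functor.whiskerLeft (resMod Y ⋙ pullC f)
      (Functor.whiskerRight α DerivedCategory.Q))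
  let Φ := Scheme.Modules.pullback f
  let ct : DerivedCategory.Q ⋙ DCoh.Lpull f ⟶ pullC f ⋙ DerivedCategory.Q :=
    Functor.whiskerRight (DerivedCategory.quotientCompQhIso Y.Modules).inv _ ≫
      (Functor.associator _ _ _).hom ≫
      Functor.whiskerLeft _ ((KFlatLib.khFunctor Φ).totalLeftDerivedCounit DerivedCategory.Qh
        (HomotopyCategory.quasiIso Y.Modules (ComplexShape.up ℤ))) ≫
      (Functor.associator _ _ _).inv ≫
      Functor.whiskerRight (Φ.mapHomotopyCategoryFactors (ComplexShape.up ℤ)).hom _ ≫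
      (Functor.associator _ _ _).hom ≫
      Functor.whiskerLeft _ (DerivedCategory.quotientCompQhIso X.Modules).hom
  haveI : ∀ M, IsIso ((Functor.whiskerLeft (resMod Y) ct).app M) := fun M => by
    haveI := KFlatLib.isIso_counit_of_kFlat (KFlatLib.preservesKFlatQis_pull f)
      ((resMod Y).obj M) (isKFlat_resMod M)
    dsimp [ct]
    repeat' first
      | assumption
      | infer_instance
      | refine @IsIso.comp_isIso _ _ _ _ _ _ _ ?_ ?_
  haveI := NatIso.isIso_of_isIso_app (Functor.whiskerLeft (resMod Y) ct)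
  let eX : DerivedCategory.singleFunctor Y.Modules 0 ⋙ DCoh.Lpull f ⋙ DCoh.LTensorCx F ≅
      (resMod Y ⋙ pullC f) ⋙ Gen.tL (Tb X) I ⋙ DerivedCategory.Q :=
    (Functor.associator _ _ _).symm ≪≫
      Functor.isoWhiskerRight (Functor.isoWhiskerRight eS _ ≪≫ Functor.associator _ _ _ ≪≫
        asIso (Functor.whiskerLeft (resMod Y) ct) ≪≫ (Functor.associator _ _ _).symm) _ ≪≫
      Functor.associator _ _ _ ≪≫
      Functor.isoWhiskerLeft _ (Functor.isoWhiskerLeft _ cF.symm ≪≫ asIso (TensorAssocLib.cnt F')) ≪≫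
      asIso (Functor.whiskerLeft (resMod Y ⋙ pullC f) (Functor.whiskerRight α DerivedCategory.Q)) ≪≫
      Functor.isoWhiskerLeft _ (Functor.isoWhiskerRight (tLIso I).symm _)
  -- the comparison
  let θ : resMod Y ⋙ Gen.tL (Tb Y) A ⋙ DerivedCategory.Q ⟶
      ((resMod Y ⋙ pullC f) ⋙ Gen.tL (Tb X) I ⋙ DerivedCategory.Q) ⋙ DCoh.Rpush f :=
    { app := fun M => DerivedCategory.Q.map (proj f ψ ((resMod Y).obj M)) ≫
        (pushQ f).app ((Gen.tL (Tb X) I).obj ((pullC f).obj ((resMod Y).obj M)))
      naturality := fun M M' g => by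
        have h1 := congrArg DerivedCategory.Q.map (proj_natural f ψ ((resMod Y).map g))
        rw [Functor.map_comp, Functor.map_comp] at h1
        have h2 := (pushQ f).naturality ((Gen.tL (Tb X) I).map ((pullC f).map ((resMod Y).map g)))
        exact (Category.assoc _ _ _).symm.trans ((congrArg (· ≫ _) h1).trans ((Category.assoc _ _ _).trans
          ((congrArg (_ ≫ ·) h2).trans (Category.assoc _ _ _).symm))) }
  haveI : ∀ M, IsIso ((Functor.whiskerLeft (QCohCat.isQCoh Y).ι θ).app M) := fun M => by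
    let P := (resMod Y).obj M.obj
    have hP : DCoh.IsKFlat P := isKFlat_resMod M.obj
    have hPq : DCoh.IsQCohD (DerivedCategory.Q.obj P) :=
      KFlatLib.isQCohD_iso (eS.app M.obj) (PerfBaseLib.isQCohD_inD M.obj M.property)
    obtain ⟨R, r, hR, hr⟩ := exists_res ((Gen.tL (Tb X) I).obj ((pullC f).obj P))
    let θ' := proj f ψ P ≫ (pushC f).map r
    haveI : QuasiIso θ' := (KFlatLib.quasiIso_iff_stalks θ').2 fun x => by
      obtain ⟨U, hU, hx, -⟩ := AlgebraicGeometry.exists_isAffineOpen_mem_and_subset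
        (X := Y) (x := x) (U := ⊤) trivial
      have hU' : DCoh.IsQCohD (DerivedCategory.Q.obj ((rC U).obj P)) :=
        KFlatLib.isQCohD_iso (DerivedCategory.Q.mapIso ((KFlatLib.restrictCxIso U).app P).symm)
          (isQCohD_pullCx_openImmersion U.ι P hPq)
      exact (pp_iff_flat f ψ hA hP (𝟙 P)).1 (pp_of_qcoh f ψ hA hIq hU P hU') x hx R hR r hr
    haveI := hR
    haveI := isIso_pushQ f R
    haveI : IsIso ((DerivedCategory.Q ⋙ DCoh.Rpush f).map r) :=
      inferInstanceAs (IsIso ((DCoh.Rpush f).map (DerivedCategory.Q.map r)))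
    change IsIso (DerivedCategory.Q.map (proj f ψ P) ≫ (pushQ f).app _)
    refine @IsIso.of_isIso_comp_right _ _ _ _ _ _ ((DerivedCategory.Q ⋙ DCoh.Rpush f).map r) _ ?_
    rw [Category.assoc, ← (pushQ f).naturality r, ← Category.assoc]
    change IsIso ((DerivedCategory.Q.map (proj f ψ P) ≫ DerivedCategory.Q.map ((pushC f).map r)) ≫ _)
    rw [← Functor.map_comp]
    change IsIso (DerivedCategory.Q.map θ' ≫ (pushQ f).app R)
    infer_instance
  haveI := NatIso.isIso_of_isIso_app (Functor.whiskerLeft (QCohCat.isQCoh Y).ι θ)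
  exact ⟨Functor.isoWhiskerLeft _ (Functor.isoWhiskerRight eX (DCoh.Rpush f)) ≪≫
    (asIso (Functor.whiskerLeft (QCohCat.isQCoh Y).ι θ)).symm ≪≫ Functor.isoWhiskerLeft _ eY.symm⟩

end ProjNatLib
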