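import Groth.Agent.ProjNatLib.Proj
import Groth.Agent.RelPCSchLib.Desc
import Mathlib.AlgebraicGeometry.ZariskisMainTheorem

/-!
# Relative pseudo-coherence of direct images from closed subschemes of projective space
-/

set_option autoImplicit false
set_option linter.all false
set_option backward.isDefEq.respectTransparency false
set_option backward.isDefEq.respectTransparency.types false
set_option maxHeartbeats 1000000

universe u

open CategoryTheory CategoryTheory.Limits AlgebraicGeometry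
open Groth.Agent
open Groth.Agent.PerfLib (resD res isPC_of_iso)
open Groth.Agent.ImmPCLib (pushD)
open RelPCSchLib

attribute [local instance] HasDerivedCategory.standard

noncomputable section

namespace ProjNatLib

variable {X Y S : Scheme.{u}}

theorem rel_rpush_proj (q : Y ⟶ S) [LocallyOfFiniteType q] (r : ℕ) (i : X ⟶ CohB1.ProjSpaceOver r Y)
    [IsClosedImmersion i] [DCoh.HasRpush (i ≫ CohB1.ProjSpaceOver.toBase r Y)] (E : DCoh.D X)
    (hE : DerSch.IsPseudoCoherentRelAll ((i ≫ CohB1.ProjSpaceOver.toBase r Y) ≫ q) E) :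
    DerSch.IsPseudoCoherentRelAll q ((DCoh.Rpush (i ≫ CohB1.ProjSpaceOver.toBase r Y)).obj E) := by
  intro m
  haveI : IsProper (CohB1.ProjSpaceOver.toBase r Y) := ChowLib.isProper_toBase r Y
  let f := i ≫ CohB1.ProjSpaceOver.toBase r Y
  haveI : IsProper f := inferInstanceAs (IsProper (i ≫ CohB1.ProjSpaceOver.toBase r Y))
  refine rel_of_charts q fun W V hW hV hWV n φ hφ hi => ?_
  let A := CommRingCat.of (MvPolynomial (Fin n) Γ(S, V))
  let fW := f ∣_ W
  haveI : IsProper fW := MorphismProperty.of_isPullback (isPullback_morphismRestrict f W).flip inferInstance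
  let β : (f ⁻¹ᵁ W : Scheme.{u}) ⟶ Spec A := fW ≫ imm W φ
  haveI : IsProper β := inferInstanceAs (IsProper (fW ≫ imm W φ))
  let k : (f ⁻¹ᵁ W : Scheme.{u}) ⟶ CohB1.ProjSpaceOver r (Spec A) :=
    pullback.lift ((f ⁻¹ᵁ W).ι ≫ i ≫ pullback.fst _ _) β (specULiftZIsTerminal.hom_ext _ _)
  have hk : k ≫ CohB1.ProjSpaceOver.toBase r (Spec A) = β := pullback.lift_snd _ _ _
  haveI : IsProper (CohB1.ProjSpaceOver.toBase r (Spec A)) := ChowLib.isProper_toBase r (Spec A)
  haveI : IsProper k := by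
    haveI : IsProper (k ≫ CohB1.ProjSpaceOver.toBase r (Spec A)) := hk.symm ▸ inferInstance
    exact IsProper.of_comp k (CohB1.ProjSpaceOver.toBase r (Spec A))
  haveI : Mono k := ⟨fun {Z} g h e => by
    have e2 := congrArg (· ≫ CohB1.ProjSpaceOver.toBase r (Spec A)) e
    simp only [Category.assoc, hk, β] at e2
    rw [← Category.assoc, ← Category.assoc, cancel_mono] at e2
    have e1 := congrArg (· ≫ pullback.fst _ _) e
    simp only [Category.assoc, k, pullback.lift_fst] at e1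
    rw [← cancel_mono (f ⁻¹ᵁ W).ι, ← cancel_mono i]
    have e3 : g ≫ (f ⁻¹ᵁ W).ι ≫ f = h ≫ (f ⁻¹ᵁ W).ι ≫ f := by
      rw [← morphismRestrict_ι, ← Category.assoc, ← Category.assoc, e2]
    refine pullback.hom_ext ?_ ?_
    · simpa using e1
    · simpa [f, CohB1.ProjSpaceOver.toBase] using e3⟩
  haveI : IsClosedImmersion k := (IsClosedImmersion.iff_isProper_and_mono k).2 ⟨inferInstance, inferInstance⟩
  let γ : Spec A ⟶ S := Spec.map (CommRingCat.ofHom MvPolynomial.C) ≫ hV.fromSpec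
  haveI : Flat (Spec.map (CommRingCat.ofHom (MvPolynomial.C : Γ(S, V) →+* A))) :=
    HasRingHomProperty.Spec_iff.2 (RingHom.flat_algebraMap_iff.2 inferInstance)
  haveI : LocallyOfFinitePresentation (Spec.map (CommRingCat.ofHom (MvPolynomial.C : Γ(S, V) →+* A))) :=
    HasRingHomProperty.Spec_iff.2
      (RingHom.finitePresentation_algebraMap.2 (inferInstanceAs (Algebra.FinitePresentation Γ(S, V) A)))
  haveI : Flat γ := inferInstanceAs (Flat (_ ≫ _))
  haveI : LocallyOfFinitePresentation γ := inferInstanceAs (LocallyOfFinitePresentation (_ ≫ _))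
  have hβγ : β ≫ γ = (f ⁻¹ᵁ W).ι ≫ f ≫ q := by
    rw [← morphismRestrict_ι_assoc]
    show (fW ≫ W.toSpecΓ ≫ Spec.map (CommRingCat.ofHom φ)) ≫
      Spec.map (CommRingCat.ofHom MvPolynomial.C) ≫ hV.fromSpec = _
    simp only [Category.assoc]
    rw [← Spec.map_comp_assoc, ← CommRingCat.ofHom_comp, hφ.2]
    congr 1
    rw [CommRingCat.ofHom_hom, ← Category.assoc, Scheme.Opens.toSpecΓ_SpecMap_appLE, Category.assoc]
    simp
  haveI := Groth.Agent.DCohRestrLib.hasRpush fW
  haveI := Groth.Agent.DCohRestrLib.hasRpush β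
  haveI := Groth.Agent.DCohRestrLib.hasRpush (k ≫ CohB1.ProjSpaceOver.toBase r (Spec A))
  haveI := Groth.Agent.DCohRestrLib.hasRpush (imm W φ)
  haveI := Groth.Agent.DCohRestrLib.hasRpush (fW ≫ imm W φ)
  let EU := (resD (f ⁻¹ᵁ W).ι).obj E
  have hrel : DerSch.IsPseudoCoherentRelAll (k ≫ CohB1.ProjSpaceOver.toBase r (Spec A)) EU := by
    rw [hk]
    intro d
    haveI : LocallyOfFiniteType β := inferInstance
    refine (rel_comp_iff β γ (phBase_of_flat γ) d EU).1 ?_
    rw [hβγ]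
    exact rel_res (f ⁻¹ᵁ W).ι (f ≫ q) (hE d)
  obtain ⟨e₁⟩ := Groth.Agent.DCohRestrLib.nonempty_restrictD_Rpush f W
  obtain ⟨e₂⟩ := Groth.Agent.Dual3Lib.nonempty_rpush_pushD (imm W φ) ((DCoh.Rpush fW).obj EU)
  obtain ⟨e₃⟩ := Groth.Agent.Dual3Lib.nonempty_rpush_comp fW (imm W φ) EU
  obtain ⟨e₄⟩ := Groth.Agent.Dual3Lib.nonempty_rpush_congr (f := fW ≫ imm W φ)
    (f' := k ≫ CohB1.ProjSpaceOver.toBase r (Spec A)) hk.symm EU
  exact isPC_of_iso (e₄.symm ≪≫ e₃.symm ≪≫ e₂ ≪≫ (pushD (imm W φ)).mapIso (e₁.app E).symm)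
    (isPC_rpush_proj r k EU hrel m)

theorem rel_rpush_noeth [IsLocallyNoetherian S] (q : Y ⟶ S) [LocallyOfFiniteType q] (f : X ⟶ Y) [IsProper f]
    [DCoh.HasRpush f] (E : DCoh.D X) (hE : DerSch.IsPseudoCoherentRelAll (f ≫ q) E) :
    DerSch.IsPseudoCoherentRelAll q ((DCoh.Rpush f).obj E) := by
  intro m
  refine rel_of_charts q fun W V hW hV hWV n φ hφ hi => ?_
  let A := CommRingCat.of (MvPolynomial (Fin n) Γ(S, V))
  let fW := f ∣_ W
  haveI : IsProper fW := MorphismProperty.of_isPullback (isPullback_morphismRestrict f W).flip inferInstance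
  let β : (f ⁻¹ᵁ W : Scheme.{u}) ⟶ Spec A := fW ≫ imm W φ
  haveI : IsProper β := inferInstanceAs (IsProper (fW ≫ imm W φ))
  haveI := IsLocallyNoetherian.component_noetherian (X := S) ⟨V, hV⟩
  haveI : IsNoetherianRing A := inferInstanceAs (IsNoetherianRing (MvPolynomial (Fin n) Γ(S, V)))
  let γ : Spec A ⟶ S := Spec.map (CommRingCat.ofHom MvPolynomial.C) ≫ hV.fromSpec
  haveI : Flat (Spec.map (CommRingCat.ofHom (MvPolynomial.C : Γ(S, V) →+* A))) :=
    HasRingHomProperty.Spec_iff.2 (RingHom.flat_algebraMap_iff.2 inferInstance)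
  haveI : LocallyOfFinitePresentation (Spec.map (CommRingCat.ofHom (MvPolynomial.C : Γ(S, V) →+* A))) :=
    HasRingHomProperty.Spec_iff.2
      (RingHom.finitePresentation_algebraMap.2 (inferInstanceAs (Algebra.FinitePresentation Γ(S, V) A)))
  haveI : Flat γ := inferInstanceAs (Flat (_ ≫ _))
  haveI : LocallyOfFinitePresentation γ := inferInstanceAs (LocallyOfFinitePresentation (_ ≫ _))
  have hβγ : β ≫ γ = (f ⁻¹ᵁ W).ι ≫ f ≫ q := by
    rw [← morphismRestrict_ι_assoc]
    show (fW ≫ W.toSpecΓ ≫ Spec.map (CommRingCat.ofHom φ)) ≫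
      Spec.map (CommRingCat.ofHom MvPolynomial.C) ≫ hV.fromSpec = _
    simp only [Category.assoc]
    rw [← Spec.map_comp_assoc, ← CommRingCat.ofHom_comp, hφ.2]
    congr 1
    rw [CommRingCat.ofHom_hom, ← Category.assoc, Scheme.Opens.toSpecΓ_SpecMap_appLE, Category.assoc]
    simp
  haveI := Groth.Agent.DCohRestrLib.hasRpush fW
  haveI := Groth.Agent.DCohRestrLib.hasRpush β
  haveI := Groth.Agent.DCohRestrLib.hasRpush (imm W φ)
  haveI := Groth.Agent.DCohRestrLib.hasRpush (fW ≫ imm W φ)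
  let EU := (resD (f ⁻¹ᵁ W).ι).obj E
  have hrel : DerSch.IsPseudoCoherentRelAll β EU := by
    intro d
    haveI : LocallyOfFiniteType β := inferInstance
    refine (rel_comp_iff β γ (phBase_of_flat γ) d EU).1 ?_
    rw [hβγ]
    exact rel_res (f ⁻¹ᵁ W).ι (f ≫ q) (hE d)
  haveI : CompactSpace ↥(f ⁻¹ᵁ W : Scheme.{u}) := QuasiCompact.compactSpace_of_compactSpace β
  obtain ⟨b, hb⟩ := exists_bound_of_rel β (hrel 0)
  haveI : EU.IsLE b := (DerivedCategory.isLE_iff _ b).2 hb
  obtain ⟨e₁⟩ := Groth.Agent.DCohRestrLib.nonempty_restrictD_Rpush f W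
  obtain ⟨e₂⟩ := Groth.Agent.Dual3Lib.nonempty_rpush_pushD (imm W φ) ((DCoh.Rpush fW).obj EU)
  obtain ⟨e₃⟩ := Groth.Agent.Dual3Lib.nonempty_rpush_comp fW (imm W φ) EU
  exact isPC_of_iso (e₃.symm ≪≫ e₂ ≪≫ (pushD (imm W φ)).mapIso (e₁.app E).symm)
    (isPC_rpush_rel β hrel b m)

end ProjNatLib
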